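import Cfsg.Agent.Lib.Fi22Core20.Form
import Cfsg.Agent.Lib.FischerMTypes.Primitive

/-!
The setting: a class of involutions with the perp set of one member indexed by the isotropic points
of the six-dimensional unitary space, conjugation acting as transvections.
-/

set_option autoImplicit false

namespace Cfsg.Agent.Lib.Fi22Core20

open Cfsg.Agent.Lib.G24 (K4)
open Cfsg.Agent.Lib.FischerUniq91.Coord (V vec unit comb M1)
open Cfsg.Agent.Lib.FischerUniq91.Checks (J1 e0)
open Cfsg.Agent.Lib.FischerMTypes.Primitive (perp perp₂)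

variable {G : Type*} [Group G] {D : Set G} {b : G}

/-- the perp set of `b` is that of a transvection of U6(2) -/
structure Chart (D : Set G) (b : G) where
  P : V → G
  mem : ∀ v, Iso1 v → P v ∈ perp D b
  surj : ∀ y ∈ perp D b, ∃ v, Iso1 v ∧ P v = y
  eq : ∀ v w, Iso1 v → Iso1 w → (P v = P w ↔ ∃ c : K4, c ≠ 0 ∧ w = c • v)
  comm : ∀ v w, Iso1 v → Iso1 w → (Commute (P v) (P w) ↔ J1 v w = 0)
  conj : ∀ v w, Iso1 v → Iso1 w → P v * P w * (P v)⁻¹ = P (tr v w)

/-- the setting -/
structure Host (D : Set G) (b : G) where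
  mem : b ∈ D
  order : ∀ x ∈ D, orderOf x = 2
  conjD : ∀ g : G, ∀ x ∈ D, g * x * g⁻¹ ∈ D
  trans : ∀ x ∈ D, ∃ g : G, g * b * g⁻¹ = x
  chart : Chart D b

/-- only `1` and `b` centralise `b` and its perp set -/
def Kernel (D : Set G) (b : G) : Prop :=
  ∀ g : G, Commute g b → (∀ x ∈ perp D b, Commute g x) → g = 1 ∨ g = b

namespace Chart

variable (C : Chart D b)

theorem smul {v : V} (hv : Iso1 v) {c : K4} (hc : c ≠ 0) : C.P (c • v) = C.P v :=
  ((C.eq v (c • v) hv (iso_smul hv hc)).2 ⟨c, hc, rfl⟩).symm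

/-- the chart at a conjugate -/
def map (hconj : ∀ g : G, ∀ x ∈ D, g * x * g⁻¹ ∈ D) (g : G) : Chart D (g * b * g⁻¹) where
  P v := g * C.P v * g⁻¹
  mem v hv := ⟨hconj g _ (C.mem v hv).1, fun h => (C.mem v hv).2.1 (mul_left_cancel (mul_right_cancel h)),
    (C.mem v hv).2.2.map (MulAut.conj g).toMonoidHom⟩
  surj y hy := by
    have hy' : g⁻¹ * y * g ∈ perp D b := by
      refine ⟨by simpa using hconj g⁻¹ y hy.1, fun h => hy.2.1 (by rw [← h]; group), ?_⟩
      simpa [mul_assoc] using hy.2.2.map (MulAut.conj g⁻¹).toMonoidHom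
    obtain ⟨v, hv, he⟩ := C.surj _ hy'
    exact ⟨v, hv, by rw [he]; group⟩
  eq v w hv hw := by
    rw [← C.eq v w hv hw, mul_left_inj, mul_right_inj]
  comm v w hv hw := by
    rw [← C.comm v w hv hw]
    exact FischerMTypes.Basic.commute_conj_iff g _ _
  conj v w hv hw := by
    rw [← C.conj v w hv hw]; group

/-- the chart in other coordinates -/
def change (B : Fin 6 → V) (hB : IsGram B) : Chart D b where
  P v := C.P (comb B v)
  mem v hv := C.mem _ (comb_iso hB hv)
  surj y hy := by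
    obtain ⟨w, hw, rfl⟩ := C.surj y hy
    obtain ⟨v, rfl⟩ := (comb_bijective hB).2 w
    exact ⟨v, ⟨by rw [← comb_J hB]; exact hw.1, fun h => hw.2 (by rw [h, comb_eq]; simp)⟩, rfl⟩
  eq v w hv hw := by
    rw [C.eq _ _ (comb_iso hB hv) (comb_iso hB hw)]
    refine exists_congr fun c => and_congr_right fun _ => ?_
    rw [← comb_smul, (comb_bijective hB).1.eq_iff]
  comm v w hv hw := by
    rw [C.comm _ _ (comb_iso hB hv) (comb_iso hB hw), comb_J hB]
  conj v w hv hw := by
    rw [C.conj _ _ (comb_iso hB hv) (comb_iso hB hw), comb_tr hB]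

theorem map_P (hconj : ∀ g : G, ∀ x ∈ D, g * x * g⁻¹ ∈ D) (g : G) (v : V) :
    (C.map hconj g).P v = g * C.P v * g⁻¹ := rfl

theorem change_P (B : Fin 6 → V) (hB : IsGram B) (v : V) : (C.change B hB).P v = C.P (comb B v) := rfl

/-- two-sided form of conjugation -/
theorem conj_conj {x v : V} (hx : Iso1 x) (hv : Iso1 v) {y : V} (hy : Iso1 y) :
    C.P x * C.P y * C.P v * (C.P x * C.P y)⁻¹ = C.P (tr x (tr y v)) := by
  rw [← C.conj x _ hx (iso_tr hy.1 hv), ← C.conj y v hy hv]
  group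

end Chart

end Cfsg.Agent.Lib.Fi22Core20
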