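import Cfsg.Agent.Lib.Fi22Core20.Chart
import Cfsg.Agent.Lib.FischerUniq91.Coord
import Cfsg.Agent.Lib.FischerMTypes.TraceSize

/-!
A group of type M(22) is an instance of the setting.
-/

set_option autoImplicit false
set_option linter.style.haveILetI false
set_option linter.unusedSectionVars false

namespace Cfsg.Agent.Lib.Fi22Core20

open Cfsg.Agent.Lib.G24 (K4)
open Cfsg.Agent.Lib.FischerUniq91.Coord (V M1)
open Cfsg.Agent.Lib.FischerUniq91.Checks (J1 J_M1)
open Cfsg.Agent.Lib.FischerMTypes.Primitive (perp perp₂)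
open Cfsg.Agent.Lib.FischerMTypes.TraceCounts (Sys)
open Cfsg.Agent.Lib.FischerMTypes.TraceSize (ncard_trace)
open Cfsg.Agent.Lib.FischerMTypes.PointModel

variable {G : Type*} [Group G] [Finite G] {D : Set G} {F : Type} [Field F] [Fintype F]

theorem iso_of {v : V} (hv : Iso1 v) : FischerUniq91.Coord.Coord.Iso M1 v := ⟨by rw [J_M1]; exact hv.1, hv.2⟩

theorem iso_to {v : V} (hv : FischerUniq91.Coord.Coord.Iso M1 v) : Iso1 v := ⟨by rw [← J_M1]; exact hv.1, hv.2⟩

/-- coordinates at a transposition give a chart -/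
noncomputable def chartOf {q : G} {C : Ctx D q F} (K : FischerUniq91.Coord.Coord C M1) : Chart D q where
  P := K.P
  mem _ hv := K.P_mem (iso_of hv)
  surj y hy := by
    obtain ⟨v, hv, e⟩ := K.exists_P hy
    exact ⟨v, iso_to hv, e⟩
  eq _ _ hv hw := K.P_eq (iso_of hv) (iso_of hw)
  comm v w hv hw := by rw [K.P_comm (iso_of hv) (iso_of hw), J_M1]
  conj v w hv hw := by
    rw [FischerMTypes.Basic.inv_eq C.hD.1 (K.P_mem (iso_of hv)).1, K.P_conj (iso_of hv) (iso_of hw)]
    congr 1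
    funext n
    simp [tr, FischerUniq91.Coord.tvI, J_M1]

theorem exists_host (S : Sys D F) {q : G} (hq : q ∈ D) : Nonempty (Host D q) := by
  obtain ⟨e, he, he0⟩ := (S.ctx q hq).exists_iso_ne_zero
  obtain ⟨f, hef⟩ := Cfsg.Agent.Lib.Unitary.exists_hyp (S.ctx q hq).hF he0 he
  obtain ⟨K, -⟩ := FischerUniq91.Coord.exists_of_hyp (S.ctx q hq) hef
  exact ⟨⟨hq, S.hD.1.1, S.hD.2.1, fun x hx => S.hprim.1 q hq x hx, chartOf K⟩⟩

/-- a non-commuting pair has a common neighbour -/
theorem exists_common (S : Sys D F) {d c : G} (hd : d ∈ D) (hc : c ∈ D) (hdc : ¬ Commute d c) :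
    (perp₂ D d c).Nonempty :=
  Set.nonempty_of_ncard_ne_zero (by rw [ncard_trace S hd hc hdc]; norm_num)

end Cfsg.Agent.Lib.Fi22Core20
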