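import Mathlib

/-!
Two groups generated by families of involutions with the same conjugation table are isomorphic
modulo their centres.
-/

set_option autoImplicit false

namespace Cfsg.Agent.Lib.Fi22Core20

variable {ι G G' : Type*} [Group G] [Group G'] {I : Set ι} (f : ι → G) (f' : ι → G') (τ : ι → ι → ι)

/-- the data: same equalities, same conjugation -/
structure Same (I : Set ι) (f : ι → G) (f' : ι → G') (τ : ι → ι → ι) : Prop where
  eq : ∀ v ∈ I, ∀ w ∈ I, (f v = f w ↔ f' v = f' w)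
  sq : ∀ v ∈ I, f v * f v = 1
  sq' : ∀ v ∈ I, f' v * f' v = 1
  mem : ∀ v ∈ I, ∀ w ∈ I, τ v w ∈ I
  conj : ∀ v ∈ I, ∀ w ∈ I, f v * f w * (f v)⁻¹ = f (τ v w)
  conj' : ∀ v ∈ I, ∀ w ∈ I, f' v * f' w * (f' v)⁻¹ = f' (τ v w)

variable {f f' τ}

/-- the generated groups are isomorphic modulo centres -/
theorem Same.quot_equiv (h : Same I f f' τ) :
    Nonempty (↥(Subgroup.closure (f '' I)) ⧸ Subgroup.center ↥(Subgroup.closure (f '' I)) ≃*
      ↥(Subgroup.closure (f' '' I)) ⧸ Subgroup.center ↥(Subgroup.closure (f' '' I))) := by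
  set K : Subgroup (G × G') := Subgroup.closure ((fun v => (f v, f' v)) '' I)
  let Act : G × G' → Prop := fun k =>
    ∀ w ∈ I, ∃ u ∈ I, k.1 * f w * k.1⁻¹ = f u ∧ k.2 * f' w * k.2⁻¹ = f' u
  have hgen : ∀ v ∈ I, Act (f v, f' v) := fun v hv w hw =>
    ⟨τ v w, h.mem v hv w hw, h.conj v hv w hw, h.conj' v hv w hw⟩
  have hact : ∀ k ∈ K, Act k ∧ Act k⁻¹ := by
    intro k hk
    induction hk using Subgroup.closure_induction with
    | mem x hx =>
      obtain ⟨v, hv, rfl⟩ := hx
      refine ⟨hgen v hv, ?_⟩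
      have e : (f v, f' v)⁻¹ = (f v, f' v) :=
        Prod.ext (inv_eq_of_mul_eq_one_right (h.sq v hv)) (inv_eq_of_mul_eq_one_right (h.sq' v hv))
      rw [e]; exact hgen v hv
    | one => exact ⟨fun w hw => ⟨w, hw, by simp⟩, fun w hw => ⟨w, hw, by simp⟩⟩
    | mul x y _ _ hx hy =>
      have step : ∀ a c : G × G', Act a → Act c → Act (a * c) := by
        intro a c ha hc w hw
        obtain ⟨u, hu, e1, e2⟩ := hc w hw
        obtain ⟨u', hu', e3, e4⟩ := ha u hu
        refine ⟨u', hu', ?_, ?_⟩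
        · rw [← e3, ← e1, Prod.fst_mul]; group
        · rw [← e4, ← e2, Prod.snd_mul]; group
      exact ⟨step _ _ hx.1 hy.1, by rw [mul_inv_rev]; exact step _ _ hy.2 hx.2⟩
    | inv x _ hx => exact ⟨hx.2, by rw [inv_inv]; exact hx.1⟩
  have m1 : ∀ k : ↥K, (k : G × G').1 ∈ Subgroup.closure (f '' I) := by
    intro k
    have hle : K.map (MonoidHom.fst G G') = Subgroup.closure (f '' I) := by
      rw [MonoidHom.map_closure, ← Set.image_comp]; rfl
    exact hle ▸ Subgroup.mem_map_of_mem _ k.2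
  have m2 : ∀ k : ↥K, (k : G × G').2 ∈ Subgroup.closure (f' '' I) := by
    intro k
    have hle : K.map (MonoidHom.snd G G') = Subgroup.closure (f' '' I) := by
      rw [MonoidHom.map_closure, ← Set.image_comp]; rfl
    exact hle ▸ Subgroup.mem_map_of_mem _ k.2
  let p1 : ↥K →* ↥(Subgroup.closure (f '' I)) :=
    ((MonoidHom.fst G G').comp K.subtype).codRestrict _ m1
  let p2 : ↥K →* ↥(Subgroup.closure (f' '' I)) :=
    ((MonoidHom.snd G G').comp K.subtype).codRestrict _ m2
  have s1 : Function.Surjective p1 := by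
    rintro ⟨g, hg⟩
    have hle : K.map (MonoidHom.fst G G') = Subgroup.closure (f '' I) := by
      rw [MonoidHom.map_closure, ← Set.image_comp]; rfl
    obtain ⟨k, hk, hkg⟩ := Subgroup.mem_map.1 (hle.symm ▸ hg)
    exact ⟨⟨k, hk⟩, Subtype.ext hkg⟩
  have s2 : Function.Surjective p2 := by
    rintro ⟨g, hg⟩
    have hle : K.map (MonoidHom.snd G G') = Subgroup.closure (f' '' I) := by
      rw [MonoidHom.map_closure, ← Set.image_comp]; rfl
    obtain ⟨k, hk, hkg⟩ := Subgroup.mem_map.1 (hle.symm ▸ hg)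
    exact ⟨⟨k, hk⟩, Subtype.ext hkg⟩
  have c1 : ∀ k : ↥K, p1 k ∈ Subgroup.center _ ↔ ∀ w ∈ I, Commute (k : G × G').1 (f w) := by
    intro k
    rw [Subgroup.mem_center_iff]
    refine ⟨fun hz w hw => (congrArg Subtype.val
      (hz ⟨f w, Subgroup.subset_closure ⟨w, hw, rfl⟩⟩)).symm, fun hz g => Subtype.ext ?_⟩
    have : Subgroup.closure (f '' I) ≤ Subgroup.centralizer ({(k : G × G').1} : Set G) := by
      rw [Subgroup.closure_le]
      rintro _ ⟨w, hw, rfl⟩
      exact Subgroup.mem_centralizer_singleton_iff.2 (hz w hw).symm.eq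
    exact Subgroup.mem_centralizer_singleton_iff.1 (this g.2)
  have c2 : ∀ k : ↥K, p2 k ∈ Subgroup.center _ ↔ ∀ w ∈ I, Commute (k : G × G').2 (f' w) := by
    intro k
    rw [Subgroup.mem_center_iff]
    refine ⟨fun hz w hw => (congrArg Subtype.val
      (hz ⟨f' w, Subgroup.subset_closure ⟨w, hw, rfl⟩⟩)).symm, fun hz g => Subtype.ext ?_⟩
    have : Subgroup.closure (f' '' I) ≤ Subgroup.centralizer ({(k : G × G').2} : Set G') := by
      rw [Subgroup.closure_le]
      rintro _ ⟨w, hw, rfl⟩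
      exact Subgroup.mem_centralizer_singleton_iff.2 (hz w hw).symm.eq
    exact Subgroup.mem_centralizer_singleton_iff.1 (this g.2)
  have key : ∀ k : ↥K, p1 k ∈ Subgroup.center _ ↔ p2 k ∈ Subgroup.center _ := by
    intro k
    rw [c1, c2]
    constructor <;> intro hz w hw
    · obtain ⟨u, hu, e1, e2⟩ := (hact k k.2).1 w hw
      have : f' u = f' w := (h.eq u hu w hw).1 (by rw [← e1, (hz w hw).eq, mul_inv_cancel_right])
      rw [this] at e2
      exact mul_inv_eq_iff_eq_mul.1 e2
    · obtain ⟨u, hu, e1, e2⟩ := (hact k k.2).1 w hw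
      have : f u = f w := (h.eq u hu w hw).2 (by rw [← e2, (hz w hw).eq, mul_inv_cancel_right])
      rw [this] at e1
      exact mul_inv_eq_iff_eq_mul.1 e1
  let q1 := (QuotientGroup.mk' (Subgroup.center ↥(Subgroup.closure (f '' I)))).comp p1
  let q2 := (QuotientGroup.mk' (Subgroup.center ↥(Subgroup.closure (f' '' I)))).comp p2
  have hker : q1.ker = q2.ker := by
    ext k
    simp only [q1, q2, MonoidHom.mem_ker, MonoidHom.comp_apply, QuotientGroup.mk'_apply,
      QuotientGroup.eq_one_iff]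
    exact key k
  exact ⟨(QuotientGroup.quotientKerEquivOfSurjective q1 ((QuotientGroup.mk'_surjective _).comp s1)).symm.trans
    ((QuotientGroup.quotientMulEquivOfEq hker).trans
      (QuotientGroup.quotientKerEquivOfSurjective q2 ((QuotientGroup.mk'_surjective _).comp s2)))⟩

end Cfsg.Agent.Lib.Fi22Core20
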