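import Cfsg.Agent.Lib.Fi22Core20.Trace
import Cfsg.Agent.Lib.Fi22Core20.Quot
import Cfsg.Agent.Lib.Fi22Core20.Model
import Cfsg.Agent.Lib.FischerExist27.M22
import Cfsg.Agent.Lib.FischerUniq91.Main
import Cfsg.Agent.Lib.FischerMTypes.Connected

/-!
A class of involutions charted as in U6(2): the component of the commuting graph is a class of
3-transpositions of type M(22), and generates the presented group Fi22.
-/

set_option autoImplicit false
set_option maxRecDepth 20000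
set_option linter.style.haveILetI false
set_option linter.unusedSectionVars false

namespace Cfsg.Agent.Lib.Fi22Core20

open Cfsg.Agent.Lib.G24 (K4)
open Cfsg.Agent.Lib.FischerUniq91.Coord (V unit)
open Cfsg.Agent.Lib.FischerUniq91.Checks (J1 e0)
open Cfsg.Agent.Lib.FischerMTypes.Primitive (perp perp₂)

variable {G : Type*} [Group G] {D : Set G} {b : G}

/-- `x` is at distance at most two from `a` -/
def Rel (D : Set G) (a x : G) : Prop := x ∈ D ∧ (Commute a x ∨ (perp₂ D a x).Nonempty)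

/-- the component of `a` in the commuting graph -/
def comp (D : Set G) (a : G) : Set G := {x | Rel D a x}

theorem comp_sub {a : G} : comp D a ⊆ D := fun _ h => h.1

theorem perp_sub_comp {a : G} : perp D a ⊆ comp D a := fun _ h => ⟨h.1, Or.inl h.2.2⟩

namespace Host

variable (H : Host D b)

include H

/-- the setting at any member -/
theorem moved {a : G} (ha : a ∈ D) : Nonempty (Host D a) := by
  obtain ⟨g, rfl⟩ := H.trans a ha
  refine ⟨⟨ha, H.order, H.conjD, fun x hx => ?_, H.chart.map H.conjD g⟩⟩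
  obtain ⟨k, rfl⟩ := H.trans x hx
  exact ⟨k * g⁻¹, by group⟩

theorem mem_comp_self : b ∈ comp D b := ⟨H.mem, Or.inl (Commute.refl b)⟩

/-- the component is closed under commuting -/
theorem step {x y : G} (hx : x ∈ comp D b) (hy : y ∈ D) (hxy : Commute x y) : y ∈ comp D b := by
  by_cases hby : Commute b y
  · exact ⟨hy, Or.inl hby⟩
  refine ⟨hy, Or.inr ?_⟩
  have hyb : y ≠ b := fun e => hby (e ▸ Commute.refl b)
  by_cases hbx : Commute b x
  · exact ⟨x, ⟨hx.1, fun e => hby (e ▸ hxy), hbx⟩, hx.1, fun e => hby (e ▸ hbx), hxy.symm⟩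
  obtain ⟨p₀, hp₀⟩ := hx.2.resolve_left hbx
  by_cases hyx : y = x
  · exact hyx ▸ ⟨p₀, hp₀⟩
  obtain ⟨Hx⟩ := H.moved hx.1
  obtain ⟨p, hp, hyp⟩ := Hx.near hx.1 H.mem (fun h => hbx h.symm) ⟨hp₀.2, hp₀.1⟩ ⟨hy, hyx, hxy⟩
  exact ⟨p, hp.2, hp.1.1, fun e => hby (e ▸ hp.2.2.2), hyp⟩

theorem comp_eq {u : G} (hu : u ∈ comp D b) : comp D u = comp D b := by
  obtain ⟨Hu⟩ := H.moved hu.1
  have hbu : b ∈ comp D u := by
    refine ⟨H.mem, hu.2.imp Commute.symm ?_⟩
    rintro ⟨p, hp⟩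
    exact ⟨p, hp.2, hp.1⟩
  have sub : ∀ {a c : G}, Host D a → c ∈ comp D a → comp D c ⊆ comp D a := by
    intro a c Ha hc x hx
    rcases hx.2 with h | ⟨p, hp⟩
    · exact Ha.step hc hx.1 h
    · exact Ha.step (Ha.step hc hp.1.1 hp.1.2.2) hx.1 hp.2.2.2.symm
  exact Set.Subset.antisymm (sub H hu) (sub Hu hbu)

/-- two non-commuting members of the component -/
theorem braid {u v : G} (hu : u ∈ comp D b) (hv : v ∈ comp D b) (huv : ¬ Commute u v) :
    u * v * u⁻¹ ∈ comp D b ∧ (u * v) ^ 3 = 1 := by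
  rw [← H.comp_eq hu] at hv
  obtain ⟨p, hp⟩ := hv.2.resolve_left huv
  obtain ⟨C⟩ := H.exists_chart hp.1.1
  obtain ⟨x, hx, ex⟩ := C.surj u ⟨hu.1, Ne.symm hp.1.2.1, hp.1.2.2.symm⟩
  obtain ⟨w, hw, ew⟩ := C.surj v ⟨hv.1, Ne.symm hp.2.2.1, hp.2.2.2.symm⟩
  have hc : J1 w x ≠ 0 := fun h => huv (ex ▸ ew ▸ (C.comm x w hx hw).2 ((J1_eq_zero_comm _ _).1 h))
  have i1 := iso_tr hx.1 hw
  constructor
  · rw [← ex, ← ew, C.conj x w hx hw]
    have hp' : p ∈ comp D b := H.step hu hp.1.1 hp.1.2.2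
    exact H.step hp' (C.mem _ i1).1 (C.mem _ i1).2.2
  · have e : u * v * u = v * u * v := by
      have hu' : u⁻¹ = u := H.inv_eq hu.1
      have hv' : v⁻¹ = v := H.inv_eq hv.1
      calc u * v * u = u * v * u⁻¹ := by rw [hu']
        _ = C.P (tr x w) := by rw [← ex, ← ew, C.conj x w hx hw]
        _ = C.P (tr w x) := by
            refine (C.eq _ _ i1 (iso_tr hw.1 hx)).2 ⟨(J1 w x)⁻¹, inv_ne_zero hc, ?_⟩
            have key : ∀ c : K4, c ≠ 0 → c * c = c⁻¹ := by decide +kernel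
            rw [tr_eq, tr_eq, J1_conj w x, smul_add, smul_smul, inv_mul_cancel₀ hc, one_smul,
              key _ hc, add_comm]
        _ = v * u * v⁻¹ := by rw [← ex, ← ew, C.conj w x hw hx]
        _ = v * u * v := by rw [hv']
    calc (u * v) ^ 3 = (u * v * u) * (v * u * v) := by rw [pow_three]; group
      _ = (v * u * v) * (v * u * v) := by rw [e]
      _ = v * (u * (v * v) * u) * v := by group
      _ = 1 := by rw [H.sq hv.1, mul_one, H.sq hu.1, mul_one, H.sq hv.1]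

theorem conj_comp {u v : G} (hu : u ∈ comp D b) (hv : v ∈ comp D b) : u * v * u⁻¹ ∈ comp D b := by
  by_cases h : Commute u v
  · rw [h.eq, mul_inv_cancel_right]; exact hv
  · exact (H.braid hu hv h).1

theorem conj_closure {g v : G} (hg : g ∈ Subgroup.closure (comp D b)) (hv : v ∈ comp D b) :
    g * v * g⁻¹ ∈ comp D b := by
  suffices h : ∀ x, x ∈ comp D b ↔ g * x * g⁻¹ ∈ comp D b from (h v).1 hv
  clear hv v
  induction hg using Subgroup.closure_induction with
  | mem u hu =>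
    intro x
    refine ⟨H.conj_comp hu, fun h => ?_⟩
    have := H.conj_comp hu h
    rwa [show u * (u * x * u⁻¹) * u⁻¹ = (u * u) * x * (u * u)⁻¹ by group, H.sq hu.1, one_mul, inv_one,
      mul_one] at this
  | one => simp
  | mul g k _ _ hg hk =>
    intro x
    rw [hk x, hg (k * x * k⁻¹)]
    group
  | inv g _ hg =>
    intro x
    rw [hg (g⁻¹ * x * g⁻¹⁻¹)]
    group

/-- a member not commuting with `b` and a common member -/
theorem exists_off : ∃ a d, d ∈ comp D b ∧ ¬ Commute b d ∧ a ∈ perp₂ D b d := by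
  have ha := H.chart.mem e0 e0_iso1
  obtain ⟨Ca⟩ := H.exists_chart ha.1
  obtain ⟨C, hC⟩ := Ca.exists_at (a := b) ⟨H.mem, Ne.symm ha.2.1, ha.2.2.symm⟩
  have hd := C.mem (unit 5) unit5_iso
  refine ⟨_, C.P (unit 5), H.step (x := H.chart.P e0) (perp_sub_comp ha) hd.1 hd.2.2, fun h => ?_,
    ha, ha.1, Ne.symm hd.2.1, hd.2.2.symm⟩
  have h' : Commute (C.P e0) (C.P (unit 5)) := by rw [hC]; exact h
  exact absurd ((C.commute_e0 unit5_iso).1 h') (by decide)

end Host

/-- two charts give the same table on all points -/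
theorem same_perp {G' : Type*} [Group G'] {D' : Set G'} {b' : G'} (H : Host D b) (H' : Host D' b')
    (C : Chart D b) (C' : Chart D' b') : Same {v | Iso1 v} C.P C'.P tr where
  eq v hv w hw := by rw [C.eq v w hv hw, C'.eq v w hv hw]
  sq v hv := H.sq (C.mem v hv).1
  sq' v hv := H'.sq (C'.mem v hv).1
  mem v hv w hw := iso_tr hv.1 hw
  conj v hv w hw := C.conj v w hv hw
  conj' v hv w hw := C'.conj v w hv hw

/-- points of the standard trace up to scalars -/
def StdSet : Set V := {v | Iso1 v ∧ ∃ u, Std u ∧ ∃ c : K4, c ≠ 0 ∧ v = c • u}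

theorem image_std {G : Type*} [Group G] {D : Set G} {b d : G} (C : Chart D b)
    (hT : ∀ y, y ∈ perp₂ D b d ↔ ∃ v, Std v ∧ y = C.P v) : C.P '' StdSet = perp₂ D b d := by
  ext y
  constructor
  · rintro ⟨v, ⟨-, u, hu, c, hc, rfl⟩, rfl⟩
    exact (hT _).2 ⟨u, hu, C.smul hu.iso hc⟩
  · intro hy
    obtain ⟨u, hu, rfl⟩ := (hT y).1 hy
    exact ⟨u, ⟨hu.iso, u, hu, 1, one_ne_zero, (one_smul _ _).symm⟩, rfl⟩

theorem same_trace {G' : Type*} [Group G'] {D' : Set G'} {b' : G'} {e : G} (H : Host D b)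
    (H' : Host D' b') (C : Chart D b) (C' : Chart D' b')
    (hT : ∀ y, y ∈ perp₂ D b e ↔ ∃ v, Std v ∧ y = C.P v) : Same StdSet C.P C'.P tr where
  eq v hv w hw := by rw [C.eq v w hv.1 hw.1, C'.eq v w hv.1 hw.1]
  sq v hv := H.sq (C.mem v hv.1).1
  sq' v hv := H'.sq (C'.mem v hv.1).1
  mem v hv w hw := by
    have i := iso_tr hv.1.1 hw.1
    refine ⟨i, ?_⟩
    have hm : ∀ x ∈ StdSet, C.P x ∈ perp₂ D b e := fun x hx => by
      rw [← image_std C hT]; exact ⟨x, hx, rfl⟩
    have := H.trace_closed (hm v hv) (hm w hw)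
    rw [C.conj v w hv.1 hw.1] at this
    obtain ⟨u, hu, he⟩ := (hT _).1 this
    obtain ⟨c, hc, hcu⟩ := (C.eq u (tr v w) hu.iso i).1 he.symm
    exact ⟨u, hu, c, hc, hcu⟩
  conj v hv w hw := C.conj v w hv.1 hw.1
  conj' v hv w hw := C'.conj v w hv.1 hw.1

/-- lifting generators of a subgroup -/
theorem quot_in {N : Subgroup G} {S : Set G} (hS : S ⊆ N) :
    Nonempty (↥(Subgroup.closure {x : ↥N | (x : G) ∈ S}) ⧸
        Subgroup.center ↥(Subgroup.closure {x : ↥N | (x : G) ∈ S}) ≃*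
      ↥(Subgroup.closure S) ⧸ Subgroup.center ↥(Subgroup.closure S)) := by
  have himg : (Subgroup.closure {x : ↥N | (x : G) ∈ S}).map N.subtype = Subgroup.closure S := by
    rw [MonoidHom.map_closure]
    congr 1
    exact Subtype.coe_image_of_subset hS
  let e := (Subgroup.equivMapOfInjective _ N.subtype N.subtype_injective).trans
    (MulEquiv.subgroupCongr himg)
  refine ⟨QuotientGroup.congr _ _ e (le_antisymm ?_ fun y hy => ⟨e.symm y, ?_, e.apply_symm_apply y⟩)⟩
  · rintro _ ⟨x, hx, rfl⟩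
    exact Subgroup.mem_center_iff.2 fun g => by
      obtain ⟨g, rfl⟩ := e.surjective g
      show e g * e x = e x * e g
      rw [← map_mul, ← map_mul, Subgroup.mem_center_iff.1 hx g]
  · exact Subgroup.mem_center_iff.2 fun g => e.injective (by
      rw [map_mul, map_mul, e.apply_symm_apply, Subgroup.mem_center_iff.1 hy (e g)])

variable [Finite G]

/-- the component of a member: a group of type M(22) -/
theorem Host.main (H : Host D b) (hk : Kernel D b) :
    let N := Subgroup.closure (comp D b)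
    let DN : Set ↥N := {x | (x : G) ∈ comp D b}
    Cfsg.IsThreeTranspositionGroup DN ∧ Cfsg.IsPrimitiveUnderConj DN ∧ Cfsg.IsOfTypeM22 ↥N DN ∧
      Subgroup.center ↥N = ⊥ ∧
      ∃ e : Cfsg.Spor.Fi22 ≃* ↥N, ∀ x, e (Fi22Mult.gen₂₂ x) ∈ DN := by
  intro N DN
  have hsubN : comp D b ⊆ (N : Set G) := Subgroup.subset_closure
  have hD : Cfsg.IsThreeTranspositionGroup DN := by
    refine ⟨⟨fun x hx => ?_, fun x hx y hy => ?_⟩, fun g x hx => H.conj_closure g.2 hx, ?_⟩
    · rw [← Subgroup.orderOf_coe]; exact H.order _ hx.1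
    · by_cases h : Commute (x : G) y
      · left
        apply Subtype.ext
        rw [SubgroupClass.coe_pow, Subgroup.coe_mul, Subgroup.coe_one, h.mul_pow, pow_two, pow_two,
          H.sq hx.1, H.sq hy.1, mul_one]
      · right
        apply Subtype.ext
        rw [SubgroupClass.coe_pow, Subgroup.coe_mul, Subgroup.coe_one]
        exact (H.braid hx hy h).2
    · exact Subgroup.closure_closure_coe_preimage
  obtain ⟨a, d, hd, hbd, ha⟩ := H.exists_off
  have hZ : Subgroup.center ↥N = ⊥ := by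
    rw [eq_bot_iff]
    intro z hz
    have hcomm : ∀ x ∈ comp D b, Commute (z : G) x := fun x hx =>
      (congrArg Subtype.val (Subgroup.mem_center_iff.1 hz ⟨x, hsubN hx⟩)).symm
    rcases hk z (hcomm b H.mem_comp_self) (fun x hx => hcomm x (perp_sub_comp hx)) with h | h
    · exact Subgroup.mem_bot.2 (Subtype.ext h)
    · exact absurd (h ▸ hcomm d hd) hbd
  have ht : Cfsg.IsOfTypeM22 ↥N DN := by
    obtain ⟨ρ, hX, hcl, hprimX, htX⟩ := FischerExist27.M22.main
    set DX := Set.range hX.pt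
    have hDX : Cfsg.IsThreeTranspositionGroup DX := ⟨hcl.1, fun g x hx => by
      obtain ⟨d₀, -, hD₀⟩ := hcl.2.1
      rw [hD₀] at hx ⊢
      exact (hx : IsConj d₀ x).trans (isConj_iff.2 ⟨g, rfl⟩), hcl.2.2⟩
    haveI : Finite FischerExist27.M22.X :=
      Nat.finite_of_card_ne_zero (by rw [show Nat.card FischerExist27.M22.X = _ from Cfsg.Agent.S1696.result.2]; norm_num)
    obtain ⟨F, iF, iF', ⟨S⟩⟩ := FischerMTypes.TraceCounts.exists_sys hDX hprimX htX
    obtain ⟨-, dX, hdX, cX, hcX, hdcX, ⟨K, iK, iK', hK, ⟨i₁⟩⟩, c₃, hc₃, Q, hQ, hdet, ⟨i₂⟩⟩ := htX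
    obtain ⟨HX⟩ := exists_host S hdX
    obtain ⟨aX, haX⟩ := exists_common S hdX hcX hdcX
    obtain ⟨CX, -, hTX⟩ := HX.exists_trace hdX hcX hdcX haX
    obtain ⟨C, -, hT⟩ := H.exists_trace H.mem hd.1 hbd ha
    have hP : C.P '' {v | Iso1 v} = perp D b := Set.Subset.antisymm
      (Set.image_subset_iff.2 fun v hv => C.mem v hv) fun y hy => by
        obtain ⟨v, hv, rfl⟩ := C.surj y hy; exact ⟨v, hv, rfl⟩
    have hPX : CX.P '' {v | Iso1 v} = perp DX dX := Set.Subset.antisymm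
      (Set.image_subset_iff.2 fun v hv => CX.mem v hv) fun y hy => by
        obtain ⟨v, hv, rfl⟩ := CX.surj y hy; exact ⟨v, hv, rfl⟩
    obtain ⟨j₁⟩ := (same_perp H HX C CX).quot_equiv
    obtain ⟨j₂⟩ := (same_trace H HX C CX hT).quot_equiv
    rw [hP, hPX] at j₁
    rw [image_std C hT, image_std CX hTX] at j₂
    set bN : ↥N := ⟨b, hsubN H.mem_comp_self⟩
    set dN : ↥N := ⟨d, hsubN hd⟩
    have hval : ∀ (u : ↥N), (u : G) ∈ comp D b →
        {y : ↥N | y ∈ DN ∧ y ≠ u ∧ Commute u y} = {x : ↥N | (x : G) ∈ perp D (u : G)} := by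
      intro u hu
      ext y
      constructor
      · rintro ⟨hy, hne, hc⟩
        exact ⟨hy.1, fun e => hne (Subtype.ext e), hc.map N.subtype⟩
      · rintro ⟨hy, hne, hc⟩
        exact ⟨H.step hu hy hc, fun e => hne (congrArg Subtype.val e), Subtype.ext hc.eq⟩
    obtain ⟨k₁⟩ := quot_in (N := N) (S := perp D b) fun x hx => hsubN (perp_sub_comp hx)
    obtain ⟨k₂⟩ := quot_in (N := N) (S := perp₂ D b d) fun x hx => hsubN (perp_sub_comp hx.1)
    refine ⟨hZ, bN, H.mem_comp_self, dN, hd, fun h => hbd (h.map N.subtype), ?_⟩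
    have gen : ∀ A B : Set ↥N, A = {x : ↥N | (x : G) ∈ perp D b} →
        A ∩ B = {x : ↥N | (x : G) ∈ perp₂ D b d} →
        (∃ (F : Type) (_ : Field F) (_ : Fintype F), Fintype.card F = 4 ∧
          Nonempty (↥(Subgroup.closure A) ⧸ Subgroup.center ↥(Subgroup.closure A) ≃* Cfsg.PSU 6 F 2)) ∧
        ∃ c₃ : ZMod 3, c₃ ≠ 0 ∧ Cfsg.IsProjReflectionGroupModThree
          (↥(Subgroup.closure (A ∩ B)) ⧸ Subgroup.center ↥(Subgroup.closure (A ∩ B))) 6 1 c₃ := by
      intro A B hA hAB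
      have aux : ∀ C : Set ↥N, C = {x : ↥N | (x : G) ∈ perp₂ D b d} →
          ∃ c₃ : ZMod 3, c₃ ≠ 0 ∧ Cfsg.IsProjReflectionGroupModThree
            (↥(Subgroup.closure C) ⧸ Subgroup.center ↥(Subgroup.closure C)) 6 1 c₃ := by
        rintro C rfl
        exact ⟨c₃, hc₃, Q, hQ, hdet, ⟨(k₂.trans j₂).trans i₂⟩⟩
      refine ⟨?_, aux _ hAB⟩
      subst hA
      exact ⟨K, iK, iK', hK, ⟨(k₁.trans j₁).trans i₁⟩⟩
    exact gen _ _ (hval bN H.mem_comp_self) (by rw [hval bN H.mem_comp_self, hval dN hd]; rfl)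
  have hprim := FischerMTypes.Connected.primitive_of_M22 hD ht
  exact ⟨hD, hprim, ht, hZ, FischerUniq91.Main.exists_iso hD hprim ht⟩

end Cfsg.Agent.Lib.Fi22Core20
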