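import Cfsg.Agent.Lib.FischerUniq91.Checks

/-!
The form of a hyperbolic pair and an orthonormal complement on six-tuples over four elements:
sesquilinearity, transvections, changes of coordinates.
-/

set_option autoImplicit false
set_option maxRecDepth 20000

namespace Cfsg.Agent.Lib.Fi22Core20

open Cfsg.Agent.Lib.G24 (K4)
open Cfsg.Agent.Lib.FischerUniq91.Coord (V vec code unit sum6 sum6_eq comb tvI M1 J)
open Cfsg.Agent.Lib.FischerUniq91.Checks (J1 e0 J_M1)

/-- a non-zero isotropic vector -/
def Iso1 (v : V) : Prop := J1 v v = 0 ∧ v ≠ 0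

instance instDecidableIso1 (v : V) : Decidable (Iso1 v) := inferInstanceAs (Decidable (_ ∧ _))

/-- image of `w` under the transvection of `v` -/
def tr (v w : V) : V := fun k => w k + J1 w v * v k

theorem tr_eq (v w : V) : tr v w = w + J1 w v • v := rfl

theorem sq_add : ∀ a b : K4, (a + b) * (a + b) = a * a + b * b := by decide +kernel

theorem add_self4 : ∀ a : K4, a + a = 0 := by decide +kernel

theorem sq4 : ∀ a : K4, a * a * (a * a) = a := by decide +kernel

theorem unit_sq : ∀ a : K4, a ≠ 0 → a * (a * a) = 1 := by decide +kernel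

theorem sq_inj : ∀ a b : K4, a * a = b * b → a = b := by decide +kernel

theorem J1_add_left (u v w : V) : J1 (u + v) w = J1 u w + J1 v w := by
  simp only [J1, Pi.add_apply]; ring

theorem J1_smul_left (c : K4) (u w : V) : J1 (c • u) w = c * J1 u w := by
  simp only [J1, Pi.smul_apply, smul_eq_mul]; ring

theorem J1_add_right (u v w : V) : J1 u (v + w) = J1 u v + J1 u w := by
  simp only [J1, Pi.add_apply, sq_add]; ring

theorem J1_smul_right (c : K4) (u w : V) : J1 u (c • w) = c * c * J1 u w := by
  simp only [J1, Pi.smul_apply, smul_eq_mul]; ring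

theorem J1_conj (u w : V) : J1 w u = J1 u w * J1 u w := by
  have key : ∀ a b : K4, a * (b * b) * (a * (b * b)) = b * (a * a) := by decide +kernel
  simp only [J1, sq_add, key]
  ring

theorem J1_eq_zero_comm (u w : V) : J1 u w = 0 ↔ J1 w u = 0 := by
  rw [J1_conj u w, mul_self_eq_zero]

theorem J1_zero_left (w : V) : J1 0 w = 0 := by
  simpa using J1_smul_left 0 0 w

theorem J1_zero_right (w : V) : J1 w 0 = 0 := by
  rw [J1_conj 0 w, J1_zero_left, zero_mul]

theorem iso_smul {v : V} (hv : Iso1 v) {c : K4} (hc : c ≠ 0) : Iso1 (c • v) :=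
  ⟨by rw [J1_smul_left, J1_smul_right, hv.1, mul_zero, mul_zero], smul_ne_zero hc hv.2⟩

/-- transvections preserve the form -/
theorem J1_tr {v : V} (hv : J1 v v = 0) (u w : V) : J1 (tr v u) (tr v w) = J1 u w := by
  simp only [tr_eq, J1_add_left, J1_add_right, J1_smul_left, J1_smul_right, hv, mul_zero, add_zero]
  rw [J1_conj w v]
  generalize J1 u v = a
  generalize J1 w v = t
  generalize J1 u w = s
  revert a t s
  decide +kernel

theorem tr_add (v u w : V) : tr v (u + w) = tr v u + tr v w := by
  simp only [tr_eq, J1_add_left, add_smul]; abel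

theorem tr_smul (v : V) (c : K4) (w : V) : tr v (c • w) = c • tr v w := by
  simp only [tr_eq, J1_smul_left, mul_smul, smul_add]

theorem tr_tr {v : V} (hv : J1 v v = 0) (w : V) : tr v (tr v w) = w := by
  simp only [tr_eq, J1_add_left, J1_smul_left, hv, mul_zero, add_zero]
  rw [add_assoc, ← add_smul, add_self4, zero_smul, add_zero]

theorem iso_tr {v w : V} (hv : J1 v v = 0) (hw : Iso1 w) : Iso1 (tr v w) :=
  ⟨by rw [J1_tr hv]; exact hw.1, fun h => hw.2 (by rw [← tr_tr hv w, h, tr_eq, J1_zero_left]; simp)⟩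

/-- a change of coordinates keeps the Gram matrix -/
def IsGram (B : Fin 6 → V) : Prop := ∀ i j, J1 (B i) (B j) = M1 i j

theorem comb_eq (B : Fin 6 → V) (v : V) : comb B v = ∑ i, v i • B i := by
  funext k
  simp [comb, sum6_eq]

theorem comb_add (B : Fin 6 → V) (v w : V) : comb B (v + w) = comb B v + comb B w := by
  simp [comb_eq, add_smul, Finset.sum_add_distrib]

theorem comb_smul (B : Fin 6 → V) (c : K4) (v : V) : comb B (c • v) = c • comb B v := by
  simp [comb_eq, Finset.smul_sum, smul_smul]

theorem comb_J {B : Fin 6 → V} (hB : IsGram B) (v w : V) : J1 (comb B v) (comb B w) = J1 v w := by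
  have hl : ∀ (s : Finset (Fin 6)) (f : Fin 6 → V) (x : V), J1 (∑ i ∈ s, f i) x = ∑ i ∈ s, J1 (f i) x :=
    fun s f x => map_sum (AddMonoidHom.mk' (fun y => J1 y x) fun a b => J1_add_left a b x) f s
  have hr : ∀ (s : Finset (Fin 6)) (f : Fin 6 → V) (x : V), J1 x (∑ i ∈ s, f i) = ∑ i ∈ s, J1 x (f i) :=
    fun s f x => map_sum (AddMonoidHom.mk' (fun y => J1 x y) fun a b => J1_add_right x a b) f s
  rw [← J_M1 v w]
  simp only [comb_eq, hl, hr, J1_smul_left, J1_smul_right, J, sum6_eq, Finset.mul_sum]
  exact Finset.sum_congr rfl fun i _ => Finset.sum_congr rfl fun j _ => by rw [hB i j]; ring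

theorem M1_nondeg {v : V} (h : ∀ w, J1 v w = 0) : v = 0 := by
  funext i
  fin_cases i
  · simpa [J1, unit] using h (unit 5)
  · simpa [J1, unit] using h (unit 1)
  · simpa [J1, unit] using h (unit 2)
  · simpa [J1, unit] using h (unit 3)
  · simpa [J1, unit] using h (unit 4)
  · simpa [J1, unit] using h (unit 0)

theorem comb_bijective {B : Fin 6 → V} (hB : IsGram B) : Function.Bijective (comb B) := by
  refine Finite.injective_iff_bijective.mp fun v w h => ?_
  have hz : v + w = 0 := M1_nondeg fun x => by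
    rw [← comb_J hB, comb_add, h, ← two_smul K4 (comb B w), show (2 : K4) = 0 by decide +kernel, zero_smul,
      J1_zero_left]
  funext i
  have := congrFun hz i
  simp only [Pi.add_apply, Pi.zero_apply] at this
  revert this
  generalize v i = a
  generalize w i = b
  revert a b
  decide +kernel

theorem comb_tr {B : Fin 6 → V} (hB : IsGram B) (v w : V) : comb B (tr v w) = tr (comb B v) (comb B w) := by
  rw [tr_eq, tr_eq, comb_add, comb_smul, comb_J hB]

theorem comb_iso {B : Fin 6 → V} (hB : IsGram B) {v : V} (hv : Iso1 v) : Iso1 (comb B v) :=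
  ⟨by rw [comb_J hB]; exact hv.1, fun h => hv.2 ((comb_bijective hB).1 (by rw [h, comb_eq]; simp))⟩

end Cfsg.Agent.Lib.Fi22Core20
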