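import Cfsg.Agent.Lib.Fi22Core20.Data
import Cfsg.Agent.Lib.Fi22Core20.Form

/-!
Computations over the 45 fibres and the 512 outer points.
-/

set_option autoImplicit false
set_option maxRecDepth 100000
set_option Elab.async false

namespace Cfsg.Agent.Lib.Fi22Core20

open Cfsg.Agent.Lib.G24 (K4)
open Cfsg.Agent.Lib.FischerUniq91.Coord (V vec code unit dec enc M1)
open Cfsg.Agent.Lib.FischerUniq91.Checks (J1 e0 u lift sv sec trace)
open Cfsg.Agent.Lib.FischerUniq91

/-- the standard section -/
def S1 (k : Fin 45) : V := sec 1 k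

/-- scaling of the hyperbolic pair -/
def scaleB (l : K4) : Fin 6 → V := fun i k =>
  if k = i then (if i.1 = 0 ∨ i.1 = 5 then l else 1) else 0

theorem scaleB_gram : ∀ l : K4, l ≠ 0 → IsGram (scaleB l) := by
  unfold IsGram
  decide +kernel

theorem sv_scale : ∀ x : K4, ∀ k : Fin 45,
    sv ⟨enc x, by cases x <;> decide⟩ k = x * sv 1 k := by decide +kernel

theorem linear_line : ∃ i j k : Fin 45, i ≠ j ∧ i ≠ k ∧ j ≠ k ∧ J1 (u i) (u j) = 0 ∧
    u k = u i + u j := by
  refine ⟨0, 15, 16, by decide, by decide, by decide, ?_, funext fun i => ?_⟩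
  · decide +kernel
  · fin_cases i <;> decide +kernel

/-- an outer point lies in the trace -/
def Good (n : ℕ) : Prop := trace 1 n = 18

instance instDecidableGood (n : ℕ) : Decidable (Good n) := inferInstanceAs (Decidable (_ = _))

/-- an outer point is orthogonal to a section point -/
theorem meets : ∀ n ∈ FischerUniq91.Data.outs, ∃ k : Fin 45, J1 (vec n) (S1 k) = 0 := by
  decide +kernel

/-- the image of `v` under the transvection of a section point -/
def st (k : ℕ) (v : V) : V := tr (S1 (Fin.ofNat 45 k)) v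

/-- one certificate -/
def certOk : ℕ × ℕ × ℕ × ℕ × ℕ × ℕ → Bool := fun c =>
  let n := c.1
  let k1 := c.2.1
  let k2 := c.2.2.1
  let k3 := c.2.2.2.1
  let g := S1 (Fin.ofNat 45 c.2.2.2.2.1)
  let m := dec c.2.2.2.2.2
  let x := vec n
  let y1 := st k1 x
  let y2 := st k2 x
  let y3 := st k3 y2
  decide (J1 x (S1 (Fin.ofNat 45 k1)) ≠ 0) && decide (J1 x (S1 (Fin.ofNat 45 k2)) ≠ 0) &&
    decide (J1 y2 (S1 (Fin.ofNat 45 k3)) ≠ 0) && decide (m ≠ 0) && decide (J1 y1 g = 0) &&
    decide (∀ i, y3 i = y1 i + m * g i)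

theorem cert_ok : Data.cert.all certOk = true := by decide +kernel

theorem cert_cover : ∀ n ∈ FischerUniq91.Data.outs, Good n ∨ n ∈ Data.cert.map Prod.fst := by
  decide +kernel

theorem cert_bad : ∀ n ∈ Data.cert.map Prod.fst, ¬ Good n := by decide +kernel

/-- a good point with its section point -/
def goodOk : ℕ × ℕ → Bool := fun c =>
  let g := S1 (Fin.ofNat 45 c.2)
  decide (J1 (vec c.1) g = 0) &&
    decide (∀ m : K4, m ≠ 0 → ¬ Good (code (fun i => vec c.1 i + m * g i)))

theorem good_ok : Data.good.all goodOk = true := by decide +kernel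

theorem good_cover : ∀ n ∈ FischerUniq91.Data.outs, Good n → n ∈ Data.good.map Prod.fst := by
  decide +kernel

/-- a common non-neighbour of a point and the standard point, from a short list -/
def nonOrth : List ℕ := [1024, 1025, 1030, 1104, 1042]

theorem exists_nonOrth : ∀ n : Fin 4096, J1 (vec n.1) (vec n.1) = 0 → n.1 ≠ 0 →
    ∃ x ∈ nonOrth, J1 (vec n.1) (vec x) ≠ 0 := by
  decide +kernel

theorem nonOrth_ok : ∀ x ∈ nonOrth, Iso1 (vec x) ∧ J1 e0 (vec x) ≠ 0 := by decide +kernel

end Cfsg.Agent.Lib.Fi22Core20
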