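import Cfsg.Agent.Lib.Fi22Core20.Chart
import Cfsg.Agent.Lib.Fi22Core20.Checks

/-!
Changes of coordinates moving the standard point, and a hyperbolic pair, to given points.
-/

set_option autoImplicit false
set_option maxRecDepth 100000

namespace Cfsg.Agent.Lib.Fi22Core20

open Cfsg.Agent.Lib.G24 (K4)
open Cfsg.Agent.Lib.FischerUniq91.Coord (V vec code unit comb M1 sum6_eq vec_code code_lt)
open Cfsg.Agent.Lib.FischerUniq91.Checks (J1 e0 J_M1)
open Cfsg.Agent.Lib.FischerMTypes.Primitive (perp perp₂)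

theorem unit_gram : IsGram unit := by
  unfold IsGram
  decide +kernel

theorem comb_unit (v : V) : comb unit v = v := by
  funext k
  simp [comb, sum6_eq, unit]

theorem tr_comb (x : V) (B : Fin 6 → V) (v : V) : tr x (comb B v) = comb (fun i => tr x (B i)) v := by
  have hs : ∀ (s : Finset (Fin 6)) (f : Fin 6 → V), tr x (∑ i ∈ s, f i) = ∑ i ∈ s, tr x (f i) :=
    fun s f => map_sum (AddMonoidHom.mk' (tr x) (tr_add x)) f s
  simp only [comb_eq, hs, tr_smul]

theorem gram_tr {x : V} (hx : J1 x x = 0) {B : Fin 6 → V} (hB : IsGram B) :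
    IsGram fun i => tr x (B i) :=
  fun i j => by rw [J1_tr hx]; exact hB i j

/-- two non-orthogonal points are exchanged by the transvection of the third point of their line -/
theorem tr_third {v w : V} (hv : J1 v v = 0) (hw : J1 w w = 0) (hwv : J1 w v ≠ 0) :
    tr (tr v w) w = J1 w v • v := by
  have h3 : J1 w (tr v w) = 1 := by
    rw [tr_eq, J1_add_right, J1_smul_right, hw, zero_add, mul_assoc]
    have key : ∀ c : K4, c ≠ 0 → c * (c * c) = 1 := by decide +kernel
    exact key _ hwv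
  rw [tr_eq (tr v w), h3, one_smul, tr_eq, ← add_assoc, ← two_smul K4 w, show (2 : K4) = 0 by decide +kernel,
    zero_smul, zero_add]

theorem e0_iso1 : Iso1 e0 := by decide +kernel

theorem unit5_iso : Iso1 (unit 5) := by decide +kernel

theorem exists_gram_point {v : V} (hv : Iso1 v) :
    ∃ B, IsGram B ∧ ∃ c : K4, c ≠ 0 ∧ comb B e0 = c • v := by
  have hn : code v ≠ 0 := fun h => hv.2 (by
    rw [← vec_code v, h]; funext i; simp [vec, FischerUniq91.Coord.dec]; rfl)
  obtain ⟨x, hx, hxv⟩ := exists_nonOrth ⟨code v, code_lt v⟩ (by rw [vec_code]; exact hv.1) hn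
  rw [vec_code] at hxv
  obtain ⟨hxi, hx0⟩ := nonOrth_ok x hx
  have h1 := tr_third (v := vec x) (w := e0) hxi.1 e0_iso1.1 hx0
  have hxv' : J1 (vec x) v ≠ 0 := fun h => hxv ((J1_eq_zero_comm _ _).1 h)
  have h2 := tr_third (v := v) (w := vec x) hv.1 hxi.1 hxv'
  have i1 : J1 (tr (vec x) e0) (tr (vec x) e0) = 0 := by rw [J1_tr hxi.1]; exact e0_iso1.1
  have i2 : J1 (tr v (vec x)) (tr v (vec x)) = 0 := by rw [J1_tr hv.1]; exact hxi.1
  refine ⟨_, gram_tr i2 (gram_tr i1 unit_gram), J1 e0 (vec x) * J1 (vec x) v, mul_ne_zero hx0 hxv', ?_⟩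
  rw [← tr_comb, ← tr_comb, comb_unit, h1, tr_smul, h2, smul_smul]

/-- a hyperbolic pair with second member `v` -/
def hypB (v : V) : Fin 6 → V := fun i k =>
  if i.1 = 5 then v k else if i.1 = 0 then e0 k else unit i k + v i * v i * e0 k

theorem hypB_ok : ∀ n : Fin 4096, J1 (vec n.1) (vec n.1) = 0 → vec n.1 5 = 1 → IsGram (hypB (vec n.1)) := by
  unfold IsGram
  decide +kernel

theorem hypB_e0 (v : V) : comb (hypB v) e0 = e0 := by
  funext k
  simp [comb, Fin.sum_univ_six, sum6_eq, hypB, e0, unit]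

theorem hypB_unit5 (v : V) : comb (hypB v) (unit 5) = v := by
  funext k
  simp [comb, Fin.sum_univ_six, sum6_eq, hypB, e0, unit]

theorem J1_e0 (v : V) : J1 v e0 = v 5 := by
  simp [J1, e0, unit]

theorem J1_unit5 (v : V) : J1 v (unit 5) = v 0 := by
  simp [J1, unit]

variable {G : Type*} [Group G] {D : Set G} {b : G}

theorem Chart.exists_at (C : Chart D b) {a : G} (ha : a ∈ perp D b) :
    ∃ C' : Chart D b, C'.P e0 = a := by
  obtain ⟨v, hv, rfl⟩ := C.surj a ha
  obtain ⟨B, hB, c, hc, he⟩ := exists_gram_point hv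
  exact ⟨C.change B hB, by rw [C.change_P, he, C.smul hv hc]⟩

theorem Chart.exists_pair (C : Chart D b) {a d : G} (ha : a ∈ perp D b) (hd : d ∈ perp D b)
    (had : ¬ Commute a d) : ∃ C' : Chart D b, C'.P e0 = a ∧ C'.P (unit 5) = d := by
  obtain ⟨C₁, rfl⟩ := C.exists_at ha
  obtain ⟨v, hv, rfl⟩ := C₁.surj d hd
  have h5 : v 5 ≠ 0 := fun h => had ((C₁.comm e0 v e0_iso1 hv).2 ((J1_eq_zero_comm _ _).1 (by rw [J1_e0, h])))
  have hi := inv_ne_zero h5
  set w := (v 5)⁻¹ • v with hw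
  have hwi : Iso1 w := iso_smul hv hi
  have hB : IsGram (hypB w) := by
    have := hypB_ok ⟨code w, code_lt w⟩ (by rw [vec_code]; exact hwi.1)
      (by rw [vec_code, hw]; simp [inv_mul_cancel₀ h5])
    rwa [vec_code] at this
  exact ⟨C₁.change _ hB, by rw [C₁.change_P, hypB_e0], by rw [C₁.change_P, hypB_unit5, hw, C₁.smul hv hi]⟩

namespace Host

variable (H : Host D b)

include H

theorem exists_chart {a : G} (ha : a ∈ D) : Nonempty (Chart D a) := by
  obtain ⟨g, rfl⟩ := H.trans a ha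
  exact ⟨H.chart.map H.conjD g⟩

theorem sq {x : G} (hx : x ∈ D) : x * x = 1 := by
  rw [← pow_two, ← H.order x hx, pow_orderOf_eq_one]

theorem inv_eq {x : G} (hx : x ∈ D) : x⁻¹ = x := inv_eq_of_mul_eq_one_right (H.sq hx)

end Host

end Cfsg.Agent.Lib.Fi22Core20
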