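import Cfsg.Agent.Lib.Fi22Core20.Moves

/-!
The members commuting with two non-commuting ones and with a third: a section over the lines at
the third, closed under conjugation, hence standard.
-/

set_option autoImplicit false
set_option maxRecDepth 100000

namespace Cfsg.Agent.Lib.Fi22Core20

open Cfsg.Agent.Lib.G24 (K4)
open Cfsg.Agent.Lib.FischerUniq91.Coord (V vec code unit comb M1 sum6_eq enc tvI)
open Cfsg.Agent.Lib.FischerUniq91.Checks (J1 e0 J_M1 u lift sv sec MidZero InFibre fibre mid_inj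
  lift_inj separate lift_ok lift_zero u_ends quad fifth start run run_ok shift shift_ok sv_quad sv_fifth)
open Cfsg.Agent.Lib.FischerMTypes.Primitive (perp perp₂)

variable {G : Type*} [Group G] {D : Set G} {b : G}

theorem lift_iso (k : Fin 45) (c : K4) :
    Iso1 (lift k c) ∧ lift k c 5 = 0 ∧ J1 (lift k c) e0 = 0 := by
  obtain ⟨h1, h2, h3⟩ := lift_ok k c
  exact ⟨⟨by rw [← J_M1]; exact h1.1, h1.2⟩, h2, by rw [← J_M1]; exact h3⟩

theorem u_iso (k : Fin 45) : Iso1 (u k) := by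
  rw [← lift_zero]; exact (lift_iso k 0).1

theorem lift_eq (k : Fin 45) (c : K4) : lift k c = u k + c • e0 := rfl

/-- the common perp of `b`, `d` -/
abbrev Tr (D : Set G) (b d : G) : Set G := perp₂ D b d

/-- the members of the common perp commuting with `a` -/
abbrev Ta (D : Set G) (b d a : G) : Set G := {y | y ∈ Tr D b d ∧ (y ≠ a ∧ Commute a y)}

/-- a point of the polar of the standard point other than it is a point of a fibre -/
theorem Chart.decomp (C : Chart D b) {y : G} (hy : y ∈ perp D b) (hne : y ≠ C.P e0)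
    (hc : Commute (C.P e0) y) : ∃ k c, y = C.P (lift k c) := by
  obtain ⟨v, hv, rfl⟩ := C.surj y hy
  have h5 : v 5 = 0 := by rw [← J1_e0 v]; exact (J1_eq_zero_comm _ _).1 ((C.comm e0 v e0_iso1 hv).1 hc)
  rcases fibre (by rw [J_M1]; exact hv.1) h5 with hm | ⟨k, c, l, hl, rfl⟩
  · exfalso
    have e : v = v 0 • e0 := by
      funext i
      fin_cases i <;> simp [e0, unit, hm.1, hm.2.1, hm.2.2.1, hm.2.2.2, h5]
    have h0 : v 0 ≠ 0 := fun h => hv.2 (by rw [e, h, zero_smul])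
    exact hne (by rw [e, C.smul e0_iso1 h0])
  · exact ⟨k, c, C.smul (lift_iso k c).1 hl⟩

theorem Chart.lift_unique (C : Chart D b) {k k' : Fin 45} {c c' : K4}
    (h : C.P (lift k c) = C.P (lift k' c')) : k = k' ∧ c = c' := by
  obtain ⟨l, -, hl⟩ := (C.eq _ _ (lift_iso k c).1 (lift_iso k' c').1).1 h
  exact lift_inj k k' c c' l hl

theorem Chart.lift_perp (C : Chart D b) (k : Fin 45) (c : K4) :
    C.P (lift k c) ∈ perp D b ∧ C.P (lift k c) ≠ C.P e0 ∧ Commute (C.P e0) (C.P (lift k c)) := by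
  obtain ⟨hi, -, h0⟩ := lift_iso k c
  refine ⟨C.mem _ hi, fun h => ?_, (C.comm _ _ e0_iso1 hi).2 ((J1_eq_zero_comm _ _).1 h0)⟩
  obtain ⟨l, -, hl⟩ := (C.eq _ _ hi e0_iso1).1 h
  have hl0 : l ≠ 0 := fun h0 => e0_iso1.2 (by rw [hl, h0, zero_smul])
  have z : ∀ i : Fin 6, e0 i = 0 → lift k c i = 0 := fun i hi' => by
    have e := congrFun hl i
    rw [hi'] at e
    exact (mul_eq_zero.1 e.symm).resolve_left hl0
  have hu : ∀ i : Fin 6, i ≠ 0 → u k i = 0 * u k i := fun i hi' => by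
    have e := z i (by simp [e0, unit, hi'])
    simp [lift, e0, unit, hi'] at e
    rw [zero_mul, e]
  exact absurd (mid_inj k k 0 ⟨hu 1 (by decide), hu 2 (by decide), hu 3 (by decide), hu 4 (by decide)⟩).2
    (by decide)

namespace Host

variable (H : Host D b) {d a : G}

/-- a pair and a member of its common perp -/
structure Pair (D : Set G) (b d a : G) : Prop where
  hb : b ∈ D
  hd : d ∈ D
  hbd : ¬ Commute b d
  ha : a ∈ Tr D b d

theorem Pair.b_perp (P : Pair D b d a) : b ∈ perp D a :=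
  ⟨P.hb, Ne.symm P.ha.1.2.1, P.ha.1.2.2.symm⟩

theorem Pair.d_perp (P : Pair D b d a) : d ∈ perp D a :=
  ⟨P.hd, Ne.symm P.ha.2.2.1, P.ha.2.2.2.symm⟩

include H

/-- in the chart at `a` the section is the standard one -/
theorem exists_inner (P : Pair D b d a) :
    ∃ C : Chart D a, C.P e0 = b ∧ (∀ k, C.P (u k) ∈ Ta D b d a) ∧
      ∀ y ∈ Ta D b d a, ∃ k, y = C.P (u k) := by
  obtain ⟨C₀⟩ := H.exists_chart P.ha.1.1
  obtain ⟨C, hb', hd'⟩ := C₀.exists_pair P.b_perp P.d_perp P.hbd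
  refine ⟨C, hb', fun k => ?_, ?_⟩
  · obtain ⟨h1, h2, h3⟩ := C.lift_perp k 0
    rw [lift_zero, hb'] at h2 h3
    rw [lift_zero] at h1
    have hc : Commute d (C.P (u k)) := by
      rw [← hd']
      refine (C.comm _ _ unit5_iso (u_iso k)).2 ((J1_eq_zero_comm _ _).1 ?_)
      rw [J1_unit5, (u_ends k).1]
    refine ⟨⟨⟨h1.1, h2, h3⟩, h1.1, fun h => P.hbd ?_, hc⟩, h1.2.1, h1.2.2⟩
    rw [h] at h3; exact h3
  · intro y hy
    obtain ⟨k, c, rfl⟩ := C.decomp (y := y) ⟨hy.1.1.1, hy.2.1, hy.2.2⟩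
      (by rw [hb']; exact hy.1.1.2.1) (by rw [hb']; exact hy.1.1.2.2)
    have hc : J1 (lift k c) (unit 5) = 0 :=
      (C.comm _ _ (lift_iso k c).1 unit5_iso).1 (by rw [hd']; exact hy.1.2.2.2.symm)
    exact ⟨k, by rw [FischerUniq91.Checks.orth_f k c (by rw [J_M1]; exact hc), lift_zero]⟩

/-- members of the section commuting alike with the common perp of `b` and `a` are equal -/
theorem eq_of_alike (P : Pair D b d a) {y y' : G} (hy : y ∈ Ta D b d a) (hy' : y' ∈ Ta D b d a)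
    (h : ∀ z, z ∈ perp D b → z ∈ perp D a → (Commute y z ↔ Commute y' z)) : y = y' := by
  obtain ⟨C, hb', -, hall⟩ := H.exists_inner P
  obtain ⟨m, rfl⟩ := hall y hy
  obtain ⟨m', rfl⟩ := hall y' hy'
  suffices m = m' by rw [this]
  refine separate m m' fun l => ?_
  obtain ⟨h1, h2, h3⟩ := C.lift_perp l 0
  rw [lift_zero, hb'] at h2 h3
  rw [lift_zero] at h1
  rw [J_M1, J_M1, ← C.comm _ _ (u_iso m) (u_iso l), ← C.comm _ _ (u_iso m') (u_iso l)]
  exact h _ ⟨h1.1, h2, h3⟩ h1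

/-- the section over the fibres -/
theorem exists_section (P : Pair D b d a) (C : Chart D b) (hC : C.P e0 = a) :
    ∃ s : Fin 45 → K4, (∀ k c, C.P (lift k c) ∈ Ta D b d a ↔ c = s k) ∧
      ∀ y ∈ Ta D b d a, ∃ k, y = C.P (lift k (s k)) := by
  classical
  have same : ∀ k c c', C.P (lift k c) ∈ Ta D b d a → C.P (lift k c') ∈ Ta D b d a → c = c' := by
    intro k c c' h h'
    refine (C.lift_unique (H.eq_of_alike P h h' fun z hz hza => ?_)).2
    obtain ⟨w, hw, rfl⟩ := C.surj z hz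
    have h0 : J1 e0 w = 0 := (C.comm _ _ e0_iso1 hw).1 (by rw [hC]; exact hza.2.2)
    rw [C.comm _ _ (lift_iso k c).1 hw, C.comm _ _ (lift_iso k c').1 hw, lift_eq, lift_eq,
      J1_add_left, J1_add_left, J1_smul_left, J1_smul_left, h0, mul_zero, mul_zero]
  obtain ⟨Ca, -, hmem, hall⟩ := H.exists_inner P
  have hdec : ∀ m, ∃ k c, Ca.P (u m) = C.P (lift k c) := fun m =>
    C.decomp (hmem m).1.1 (by rw [hC]; exact (hmem m).2.1) (by rw [hC]; exact (hmem m).2.2)
  choose κ γ hκ using hdec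
  have hin : ∀ m, C.P (lift (κ m) (γ m)) ∈ Ta D b d a := fun m => hκ m ▸ hmem m
  have hinj : Function.Injective κ := by
    intro m m' h
    have hc : γ m = γ m' := same (κ m) _ _ (hin m) (by rw [h]; exact hin m')
    have e : Ca.P (lift m 0) = Ca.P (lift m' 0) := by
      rw [lift_zero, lift_zero, hκ, hκ, h, hc]
    exact (Ca.lift_unique e).1
  have hbij : Function.Bijective κ := Finite.injective_iff_bijective.mp hinj
  choose σ hσ using hbij.2
  refine ⟨fun k => γ (σ k), fun k c => ⟨fun hc => ?_, ?_⟩, fun y hy => ?_⟩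
  · have h2 := hin (σ k)
    rw [hσ k] at h2
    exact same k _ _ hc h2
  · rintro rfl
    have h2 := hin (σ k)
    rw [hσ k] at h2
    exact h2
  · obtain ⟨m, rfl⟩ := hall y hy
    refine ⟨κ m, ?_⟩
    show Ca.P (u m) = C.P (lift (κ m) (γ (σ (κ m))))
    rw [hinj (hσ (κ m)), ← hκ]

/-- two points of the trace on a line through a third are equal -/
theorem two_on_line (C : Chart D b) (hb : b ∈ D) (hd : d ∈ D) (hbd : ¬ Commute b d) {g x : V} {m : K4}
    (hg : Iso1 g) (hx : Iso1 x) (hy : Iso1 (x + m • g))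
    (tg : C.P g ∈ Tr D b d) (tx : C.P x ∈ Ta D b d (C.P g)) (ty : C.P (x + m • g) ∈ Ta D b d (C.P g)) :
    C.P x = C.P (x + m • g) := by
  refine H.eq_of_alike ⟨hb, hd, hbd, tg⟩ tx ty fun z hz hza => ?_
  obtain ⟨w, hw, rfl⟩ := C.surj z hz
  rw [C.comm _ _ hx hw, C.comm _ _ hy hw, J1_add_left, J1_smul_left,
    (C.comm _ _ hg hw).1 hza.2.2, mul_zero, add_zero]

/-- conjugates of members of the trace by members of the trace -/
theorem trace_closed {y z : G} (hy : y ∈ Tr D b d) (hz : z ∈ Tr D b d) : y * z * y⁻¹ ∈ Tr D b d := by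
  have key : ∀ {c : G}, y ∈ perp D c → z ∈ perp D c → y * z * y⁻¹ ∈ perp D c := by
    intro c h h'
    have hyc : y * c * y⁻¹ = c := by rw [h.2.2.symm.eq, mul_inv_cancel_right]
    refine ⟨H.conjD y z h'.1, fun e => h'.2.1 ?_, ?_⟩
    · exact mul_left_cancel (mul_right_cancel (e.trans hyc.symm))
    · conv_lhs => rw [← hyc]
      exact (FischerMTypes.Basic.commute_conj_iff y c z).2 h'.2.2
  exact ⟨key hy.1 hz.1, key hy.2 hz.2⟩

theorem Ta_closed (P : Pair D b d a) {y z : G} (hy : y ∈ Ta D b d a) (hz : z ∈ Ta D b d a) :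
    y * z * y⁻¹ ∈ Ta D b d a := by
  have hya : y * a * y⁻¹ = a := by rw [hy.2.2.symm.eq, mul_inv_cancel_right]
  refine ⟨H.trace_closed hy.1 hz.1, fun e => hz.2.1 ?_, ?_⟩
  · exact mul_left_cancel (mul_right_cancel (e.trans hya.symm))
  · conv_lhs => rw [← hya]
    exact (FischerMTypes.Basic.commute_conj_iff y a z).2 hz.2.2

theorem run_sound (C : Chart D b) {T : Set G} (hclosed : ∀ y ∈ T, ∀ z ∈ T, y * z * y⁻¹ ∈ T) (c : Fin 4) :
    ∀ (l : List (ℕ × ℕ × ℕ)) (known known' : List (Fin 45)),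
      (∀ k ∈ known, C.P (sec c k) ∈ T) → run c l known = some known' → ∀ k ∈ known', C.P (sec c k) ∈ T := by
  intro l
  induction l with
  | nil =>
    intro known known' h e
    rw [run, Option.some.injEq] at e
    exact e ▸ h
  | cons step l ih =>
    obtain ⟨i, j, k⟩ := step
    intro known known' h e
    rw [run] at e
    split_ifs at e with hs
    obtain ⟨hi, hj, x, hx, hconj⟩ := hs
    refine ih _ _ ?_ e
    intro m hm
    rcases List.mem_cons.1 hm with rfl | hm
    · have hs : ∀ k, Iso1 (sec c k) := fun k => (lift_iso k (sv c k)).1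
      have := hclosed _ (h _ hi) _ (h _ hj)
      rwa [C.conj _ _ (hs _) (hs _), show tr (sec c (Fin.ofNat 45 i)) (sec c (Fin.ofNat 45 j)) =
          x • sec c (Fin.ofNat 45 k) by rw [← hconj]; funext n; simp [tr, tvI, J_M1],
        C.smul (hs _) hx] at this
    · exact h m hm

/-- coordinates in which the section is the standard one -/
theorem exists_standard (P : Pair D b d a) :
    ∃ C : Chart D b, C.P e0 = a ∧ ∀ y, y ∈ Ta D b d a ↔ ∃ k, y = C.P (S1 k) := by
  obtain ⟨C₀, hC₀⟩ := H.chart.exists_at P.ha.1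
  obtain ⟨s, hs, -⟩ := H.exists_section P C₀ hC₀
  obtain ⟨hg, h0, hq⟩ := shift_ok (s (quad 0)) (s (quad 1)) (s (quad 2)) (s (quad 3))
  have hg1 : IsGram (shift (s (quad 0)) (s (quad 1)) (s (quad 2)) (s (quad 3))) :=
    fun i j => by rw [← J_M1]; exact hg i j
  set C₁ := C₀.change _ hg1
  have hC₁ : C₁.P e0 = a := by rw [C₀.change_P, h0, hC₀]
  obtain ⟨s₁, hs₁, hall₁⟩ := H.exists_section P C₁ hC₁
  have hq0 : ∀ i : Fin 4, s₁ (quad i) = 0 := by
    intro i
    refine ((hs₁ _ 0).1 ?_).symm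
    rw [C₀.change_P, hq, zero_add]
    refine (hs _ _).2 ?_
    fin_cases i <;> rfl
  have hcl : ∀ y ∈ Ta D b d a, ∀ z ∈ Ta D b d a, y * z * y⁻¹ ∈ Ta D b d a :=
    fun y hy z hz => H.Ta_closed P hy hz
  set x := s₁ fifth with hx
  let c : Fin 4 := ⟨enc x, by cases x <;> decide⟩
  have hstart : ∀ k ∈ start, C₁.P (sec c k) ∈ Ta D b d a := by
    intro k hk
    refine (hs₁ _ _).2 ?_
    simp only [start, List.mem_cons, List.not_mem_nil, or_false] at hk
    rcases hk with rfl | rfl | rfl | rfl | rfl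
    all_goals first
      | rw [hq0, sv_quad]
      | exact sv_fifth (s₁ fifth)
  obtain ⟨known, hknown, hfull⟩ := run_ok c
  simp only [Option.mem_toList] at hknown
  have hs1 : ∀ k, s₁ k = x * sv 1 k := fun k => by
    rw [← sv_scale x k]
    exact ((hs₁ k _).1 (H.run_sound C₁ hcl c _ _ _ hstart hknown k (hfull k))).symm
  have hx0 : x ≠ 0 := by
    intro h
    obtain ⟨i, j, k, hij, hik, hjk, hJ, hk⟩ := linear_line
    have hm : ∀ n, C₁.P (u n) ∈ Ta D b d a := fun n => by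
      rw [← lift_zero]; exact (hs₁ n 0).2 (by rw [hs1, h, zero_mul])
    have hne : ∀ n n', n ≠ n' → C₁.P (u n) ≠ C₁.P (u n') := fun n n' hn e => by
      rw [← lift_zero, ← lift_zero] at e
      exact hn (C₁.lift_unique e).1
    have e : u j + (1 : K4) • u i = u k := by rw [one_smul, hk, add_comm]
    have cij : Commute (C₁.P (u i)) (C₁.P (u j)) := (C₁.comm _ _ (u_iso i) (u_iso j)).2 hJ
    have cik : Commute (C₁.P (u i)) (C₁.P (u k)) := (C₁.comm _ _ (u_iso i) (u_iso k)).2 (by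
      rw [hk, J1_add_right, (u_iso i).1, hJ, add_zero])
    have := H.two_on_line C₁ P.hb P.hd P.hbd (g := u i) (x := u j) (m := 1) (u_iso i) (u_iso j)
      (by rw [e]; exact u_iso k) (hm i).1 ⟨(hm j).1, (hne j i hij.symm), cij⟩
      (by rw [e]; exact ⟨(hm k).1, hne k i hik.symm, cik⟩)
    rw [e] at this
    exact hne j k hjk this
  refine ⟨C₁.change (scaleB x) (scaleB_gram x hx0), ?_, ?_⟩
  · rw [C₁.change_P, show comb (scaleB x) e0 = x • e0 by
      funext n; fin_cases n <;> simp [comb, Fin.sum_univ_six, sum6_eq, scaleB, e0, unit],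
      C₁.smul e0_iso1 hx0, hC₁]
  · have e : ∀ k, comb (scaleB x) (S1 k) = lift k (s₁ k) := by
      intro k
      obtain ⟨e1, e2⟩ := u_ends k
      rw [hs1]
      funext n
      fin_cases n <;>
        simp [comb, Fin.sum_univ_six, sum6_eq, scaleB, S1, sec, lift, e0, unit, e1, e2, mul_comm]
    intro y
    simp only [Chart.change_P, e]
    exact ⟨fun hy => hall₁ y hy, by rintro ⟨k, rfl⟩; exact (hs₁ k _).2 rfl⟩

end Host

end Cfsg.Agent.Lib.Fi22Core20
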