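import Cfsg.Agent.Lib.Fi22Core20.Section

/-!
The common perp of a non-commuting pair with a common member is the standard trace, and every
member of the perp of one of the pair commutes with one of its members.
-/

set_option autoImplicit false
set_option maxRecDepth 100000

namespace Cfsg.Agent.Lib.Fi22Core20

open Cfsg.Agent.Lib.G24 (K4)
open Cfsg.Agent.Lib.FischerUniq91.Coord (V vec code unit comb M1 dec vec_code code_lt)
open Cfsg.Agent.Lib.FischerUniq91.Checks (J1 e0 u lift sec u_ends outer_code outer_iso J_M1)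
open Cfsg.Agent.Lib.FischerMTypes.Primitive (perp perp₂)

/-- the standard trace -/
def Std (v : V) : Prop :=
  v = e0 ∨ (∃ k, v = S1 k) ∨ ∃ n ∈ FischerUniq91.Data.outs, Good n ∧ v = vec n

theorem S1_iso (k : Fin 45) : Iso1 (S1 k) := (lift_iso k _).1

theorem S1_five (k : Fin 45) : S1 k 5 = 0 := (lift_iso k _).2.1

theorem outs_ok {n : ℕ} (hn : n ∈ FischerUniq91.Data.outs) : Iso1 (vec n) ∧ vec n 5 ≠ 0 := by
  obtain ⟨h1, h2⟩ := outer_iso n hn
  exact ⟨⟨by rw [← J_M1]; exact h1.1, h1.2⟩, by rw [← J1_e0 (vec n), ← J_M1]; exact h2⟩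

theorem Std.iso {v : V} (h : Std v) : Iso1 v := by
  rcases h with rfl | ⟨k, rfl⟩ | ⟨n, hn, -, rfl⟩
  exacts [e0_iso1, S1_iso k, (outs_ok hn).1]

variable {G : Type*} [Group G] {D : Set G} {b : G}

namespace Chart

variable (C : Chart D b)

theorem outer {v : V} (hv : Iso1 v) (h5 : v 5 ≠ 0) :
    code ((v 5)⁻¹ • v) ∈ FischerUniq91.Data.outs ∧ C.P (vec (code ((v 5)⁻¹ • v))) = C.P v := by
  have hi := inv_ne_zero h5
  refine ⟨outer_code ⟨_, code_lt _⟩ ?_ ?_, by rw [vec_code, C.smul hv hi]⟩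
  · rw [vec_code]; exact (iso_smul hv hi).1
  · rw [vec_code]; simp [h5]

theorem commute_e0 {v : V} (hv : Iso1 v) : Commute (C.P e0) (C.P v) ↔ v 5 = 0 := by
  rw [C.comm _ _ e0_iso1 hv, J1_eq_zero_comm, J1_e0]

theorem ne_of_five {v g : V} (hv : Iso1 v) (hg : Iso1 g) (h5 : v 5 ≠ 0) (g5 : g 5 = 0) : C.P v ≠ C.P g := by
  intro h
  obtain ⟨c, hc, e⟩ := (C.eq v g hv hg).1 h
  exact mul_ne_zero hc h5 ((congrFun e 5).symm.trans g5)

end Chart

namespace Host

variable (H : Host D b) {d : G}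

include H

/-- the trace in standard coordinates -/
theorem exists_trace {a : G} (hb : b ∈ D) (hd : d ∈ D) (hbd : ¬ Commute b d) (ha : a ∈ perp₂ D b d) :
    ∃ C : Chart D b, C.P e0 = a ∧ ∀ y, y ∈ perp₂ D b d ↔ ∃ v, Std v ∧ y = C.P v := by
  obtain ⟨C, hC, hTa⟩ := H.exists_standard ⟨hb, hd, hbd, ha⟩
  have hS : ∀ k, C.P (S1 k) ∈ Ta D b d a := fun k => (hTa _).2 ⟨k, rfl⟩
  -- a member off the polar of `a` lies in the list
  have good : ∀ n ∈ FischerUniq91.Data.outs, C.P (vec n) ∈ perp₂ D b d → Good n := by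
    intro n hn hmem
    rcases cert_cover n hn with h | h
    · exact h
    exfalso
    obtain ⟨⟨n', k1, k2, k3, k, m⟩, hc, rfl⟩ := List.mem_map.1 h
    have hok := List.all_eq_true.1 cert_ok _ hc
    simp only [certOk, Bool.and_eq_true, decide_eq_true_eq] at hok
    obtain ⟨⟨⟨⟨⟨-, -⟩, -⟩, hm⟩, hg⟩, he⟩ := hok
    obtain ⟨hxi, hx5⟩ := outs_ok hn
    set g := S1 (Fin.ofNat 45 k)
    have hst : ∀ j v, Iso1 v → C.P v ∈ perp₂ D b d → Iso1 (st j v) ∧ st j v 5 = v 5 ∧
        C.P (st j v) ∈ perp₂ D b d := by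
      intro j v hv hmv
      refine ⟨iso_tr (S1_iso _).1 hv, by simp [st, tr, S1_five], ?_⟩
      rw [st, ← C.conj _ _ (S1_iso _) hv]
      exact H.trace_closed (hS _).1 hmv
    obtain ⟨i1, f1, t1⟩ := hst k1 _ hxi hmem
    obtain ⟨i2, f2, t2⟩ := hst k2 _ hxi hmem
    obtain ⟨i3, f3, t3⟩ := hst k3 _ i2 t2
    rw [f2] at f3
    have hgi := S1_iso (Fin.ofNat 45 k)
    have hg5 := S1_five (Fin.ofNat 45 k)
    have ey : st k3 (st k2 (vec n')) = st k1 (vec n') + dec m • g := funext he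
    rw [ey] at i3 f3 t3
    have e := H.two_on_line C hb hd hbd hgi i1 i3 (hS _).1
      ⟨t1, C.ne_of_five i1 hgi (by rw [f1]; exact hx5) hg5,
        (C.comm _ _ hgi i1).2 ((J1_eq_zero_comm _ _).1 hg)⟩
      ⟨t3, C.ne_of_five i3 hgi (by rw [f3]; exact hx5) hg5,
        (C.comm _ _ hgi i3).2 (by
          rw [J1_add_right, J1_smul_right, hgi.1, mul_zero, add_zero]
          exact (J1_eq_zero_comm _ _).1 hg)⟩
    obtain ⟨c, -, ec⟩ := (C.eq _ _ i1 i3).1 e
    have e5 := congrFun ec 5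
    simp only [Pi.smul_apply, smul_eq_mul, f1, f3] at e5
    have hc1 : c = 1 := mul_right_cancel₀ hx5 (by rw [one_mul]; exact e5.symm)
    rw [hc1, one_smul, add_eq_left] at ec
    exact hgi.2 ((smul_eq_zero.1 ec).resolve_left hm)
  refine ⟨C, hC, fun y => ⟨fun hy => ?_, ?_⟩⟩
  · by_cases hya : y = a
    · exact ⟨e0, Or.inl rfl, hya.trans hC.symm⟩
    by_cases hc : Commute a y
    · obtain ⟨k, rfl⟩ := (hTa y).1 ⟨hy, hya, hc⟩
      exact ⟨_, Or.inr (Or.inl ⟨k, rfl⟩), rfl⟩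
    obtain ⟨v, hv, rfl⟩ := C.surj y hy.1
    have h5 : v 5 ≠ 0 := fun h => hc (hC ▸ (C.commute_e0 hv).2 h)
    obtain ⟨hn, he⟩ := C.outer hv h5
    exact ⟨_, Or.inr (Or.inr ⟨_, hn, good _ hn (he.symm ▸ hy), rfl⟩), he.symm⟩
  · rintro ⟨v, hv, rfl⟩
    rcases hv with rfl | ⟨k, rfl⟩ | ⟨n, hn, hG, rfl⟩
    · exact hC ▸ ha
    · exact (hS k).1
    · -- the line through a section point meets the trace only at this point
      obtain ⟨⟨n', k⟩, hc, rfl⟩ := List.mem_map.1 (good_cover n hn hG)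
      have hok := List.all_eq_true.1 good_ok _ hc
      simp only [goodOk, Bool.and_eq_true, decide_eq_true_eq] at hok
      obtain ⟨hg, hno⟩ := hok
      obtain ⟨hxi, hx5⟩ := outs_ok hn
      set g := S1 (Fin.ofNat 45 k) with hgdef
      have hgi : Iso1 g := S1_iso _
      have hg5 : g 5 = 0 := S1_five _
      obtain ⟨B, hB, c, hc0, he⟩ := exists_gram_point hgi
      set C' := C.change B hB
      have hC' : C'.P e0 = C.P g := by rw [C.change_P, he, C.smul hgi hc0]
      obtain ⟨s, hs, -⟩ := H.exists_section ⟨hb, hd, hbd, (hS _).1⟩ C' hC'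
      obtain ⟨j, c₁, hdec⟩ := C'.decomp (y := C.P (vec n')) (C.mem _ hxi)
        (by rw [hC']; exact C.ne_of_five hxi hgi hx5 hg5)
        (by rw [hC']; exact (C.comm _ _ hgi hxi).2 ((J1_eq_zero_comm _ _).1 hg))
      obtain ⟨l, hl, hle⟩ := (C.eq _ _ hxi (comb_iso hB (lift_iso j c₁).1)).1 hdec
      have hmem := ((hs j (s j)).2 rfl).1
      have key : ∀ p q : K4, p = q + (p + q) := by decide +kernel
      have hrel : comb B (lift j (s j)) = l • (vec n' + (l⁻¹ * ((s j + c₁) * c)) • g) := by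
        rw [show lift j (s j) = lift j c₁ + (s j + c₁) • e0 by
            rw [lift_eq, lift_eq, add_assoc, ← add_smul]
            congr 2
            exact key (s j) c₁,
          comb_add, comb_smul, he, hle, smul_add, smul_smul, smul_smul, ← mul_assoc l l⁻¹,
          mul_inv_cancel₀ hl, one_mul]
      set m := l⁻¹ * ((s j + c₁) * c) with hmdef
      have hz : Iso1 (vec n' + m • g) := by
        have := iso_smul (comb_iso hB (lift_iso j (s j)).1) (inv_ne_zero hl)
        rwa [hrel, smul_smul, inv_mul_cancel₀ hl, one_smul] at this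
      rw [C.change_P, hrel, C.smul hz hl] at hmem
      by_cases hm : m = 0
      · rw [hm, zero_smul, add_zero] at hmem
        exact hmem
      exfalso
      have h5 : (vec n' + m • g) 5 = vec n' 5 := by simp [hg5]
      obtain ⟨hn2, he2⟩ := C.outer hz (by rw [h5]; exact hx5)
      have hone : ∀ n ∈ FischerUniq91.Data.outs, vec n 5 = 1 := by decide +kernel
      have hnorm : ((vec n' + m • g) 5)⁻¹ • (vec n' + m • g) = vec n' + m • g := by
        rw [h5, hone _ hn, inv_one, one_smul]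
      rw [hnorm] at hn2 he2
      exact hno m hm (good (code (vec n' + m • g)) hn2 (he2.symm ▸ hmem))

/-- a member of the perp of `b` commutes with a member of the trace -/
theorem near {a x : G} (hb : b ∈ D) (hd : d ∈ D) (hbd : ¬ Commute b d) (ha : a ∈ perp₂ D b d)
    (hx : x ∈ perp D b) : ∃ p ∈ perp₂ D b d, Commute x p := by
  obtain ⟨C, hC, hT⟩ := H.exists_trace hb hd hbd ha
  obtain ⟨v, hv, rfl⟩ := C.surj x hx
  by_cases h5 : v 5 = 0
  · exact ⟨a, ha, hC ▸ ((C.commute_e0 hv).2 h5).symm⟩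
  obtain ⟨hn, he⟩ := C.outer hv h5
  obtain ⟨k, hk⟩ := meets _ hn
  refine ⟨C.P (S1 k), (hT _).2 ⟨_, Or.inr (Or.inl ⟨k, rfl⟩), rfl⟩, ?_⟩
  rw [← he]
  exact (C.comm _ _ (outs_ok hn).1 (S1_iso k)).2 hk

end Host

end Cfsg.Agent.Lib.Fi22Core20
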